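import Groth.Agent.FlatMorDeform.Algebra
import Groth.Agent.FlatMorThick.FiniteOrder
import Groth.Agent.FlatMorThick.Lft
import Groth.Agent.FSchLib.Systems
import Mathlib.AlgebraicGeometry.Morphisms.FlatMono
import Mathlib.AlgebraicGeometry.Morphisms.FlatRank
import Mathlib.AlgebraicGeometry.Morphisms.FormallyUnramified
import Groth.Prelude.Def_Mor2

/-!
# Deforming properties of morphisms of flat schemes along finite order thickenings
-/

universe u

set_option autoImplicit false
set_option backward.isDefEq.respectTransparency false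
set_option linter.unusedSectionVars false

open AlgebraicGeometry CategoryTheory Limits

namespace Groth.Agent.FlatMorDeform

variable {X X' Y Y' S S' : Scheme.{u}}

theorem isFiniteOrderThickening_of_isPullback {iY : Y ⟶ Y'} {iS : S ⟶ S'} {g : Y ⟶ S}
    {g' : Y' ⟶ S'} (hS : MoreMor.IsFiniteOrderThickening iS) (hc : IsPullback iY g g' iS) :
    MoreMor.IsFiniteOrderThickening iY := by
  have := hS.1.1
  refine ⟨FlatMorThick.isThickening_of_isPullback iY iS g g' hS.1 hc, ?_⟩
  obtain ⟨n, hn⟩ := hS.2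
  rw [FlatMorThick.ker_eq_comap_of_isPullback hc]
  refine ⟨n + 1, ?_⟩
  have h : iS.ker ^ (n + 1) = ⊥ := le_bot_iff.1 (by rw [pow_succ, hn]; simp)
  rw [← FSchLib.comap_pow, h]
  simp

theorem formallyUnramified_iff {iX : X ⟶ X'} {iS : S ⟶ S'} {f : X ⟶ S} {f' : X' ⟶ S'}
    (hS : MoreMor.IsFiniteOrderThickening iS) (hc : IsPullback iX f f' iS) :
    FormallyUnramified f ↔ FormallyUnramified f' := by
  have := hS.1.1
  have : IsClosedImmersion iX := MorphismProperty.of_isPullback hc.flip inferInstance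
  refine ⟨fun _ => ?_, fun h => MorphismProperty.of_isPullback hc h⟩
  rw [HasRingHomProperty.iff_exists_appLE (P := @FormallyUnramified)
    (RingHom.FormallyUnramified.stableUnderComposition.stableUnderCompositionWithLocalizationAway
      RingHom.FormallyUnramified.holdsForLocalizationAway).left]
  intro x
  obtain ⟨U, hU, hxU, -⟩ :=
    exists_isAffineOpen_mem_and_subset (x := f' x) (U := ⊤) (Set.mem_univ _)
  obtain ⟨V, hV, hxV, hVU'⟩ := exists_isAffineOpen_mem_and_subset (x := x) (U := f' ⁻¹ᵁ U) hxU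
  have hVU : V ≤ f' ⁻¹ᵁ U := hVU'
  refine ⟨⟨U, hU⟩, ⟨V, hV⟩, hxV, hVU, formallyUnramified_of_nilpotent _ (iX.app V).hom
    (iX.app_surjective V hV) (FlatMorThick.isNilpotent_ideal hS.2 ⟨U, hU⟩) ?_ ?_⟩
  · rw [← FSchLib.ideal_comap_eq_map f' _ ⟨V, hV⟩ ⟨U, hU⟩ hVU,
      ← FlatMorThick.ker_eq_comap_of_isPullback hc, Scheme.Hom.ker_apply]
  · show (f'.appLE U V hVU ≫ iX.app V).hom.FormallyUnramified
    rw [Scheme.Hom.app_eq_appLE, Scheme.Hom.appLE_comp_appLE]
    have : FormallyUnramified iS := inferInstance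
    have : FormallyUnramified (iX ≫ f') :=
      hc.w ▸ MorphismProperty.comp_mem _ f iS inferInstance inferInstance
    exact (iX ≫ f').formallyUnramified_appLE hU (hV.preimage iX) _

theorem mono_iff {iX : X ⟶ X'} {iS : S ⟶ S'} {f : X ⟶ S} {f' : X' ⟶ S'}
    (hS : MoreMor.IsFiniteOrderThickening iS) (hc : IsPullback iX f f' iS) :
    Mono f ↔ Mono f' := by
  refine ⟨fun _ => ⟨fun {T} a b hab => ?_⟩,
    fun h => MorphismProperty.of_isPullback (P := MorphismProperty.monomorphisms Scheme.{u}) hc h⟩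
  have := hS.1.1
  have : FormallyUnramified f' := (formallyUnramified_iff hS hc).1 inferInstance
  have hT := (isFiniteOrderThickening_of_isPullback hS (IsPullback.of_hasPullback (a ≫ f') iS))
  refine FormallyUnramified.hom_ext (pullback.fst (a ≫ f') iS) hT.2 f' ?_ hab
  have wa : (pullback.fst (a ≫ f') iS ≫ a) ≫ f' = pullback.snd (a ≫ f') iS ≫ iS := by
    rw [Category.assoc, pullback.condition]
  have wb : (pullback.fst (a ≫ f') iS ≫ b) ≫ f' = pullback.snd (a ≫ f') iS ≫ iS := by
    rw [Category.assoc, ← hab, pullback.condition]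
  rw [← hc.lift_fst _ _ wa, ← hc.lift_fst _ _ wb]
  congr 1
  rw [← cancel_mono f, hc.lift_snd, hc.lift_snd]

variable {iX : X ⟶ X'} {iY : Y ⟶ Y'} {iS : S ⟶ S'} {f : X ⟶ Y} {f' : X' ⟶ Y'} {g : Y ⟶ S}
  {g' : Y' ⟶ S'}
  (hS : MoreMor.IsFiniteOrderThickening iS) (hcX : IsPullback iX (f ≫ g) (f' ≫ g') iS)
  (hcY : IsPullback iY g g' iS) (w : iX ≫ f' = f ≫ iY)

include hcX hcY w in
theorem isPullback_top : IsPullback iX f f' iY := IsPullback.of_bot hcX w hcY

include hS hcX hcY w in
/-- Reduce a property on the source and target to algebra. -/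
theorem prop_of_algebra [Flat (f' ≫ g')] (P : MorphismProperty Scheme.{u})
    {Q : ∀ {R T : Type u} [CommRing R] [CommRing T], (R →+* T) → Prop} [HasRingHomProperty P Q]
    (hQ : RingHom.StableUnderCompositionWithLocalizationAwaySource Q)
    (alg : ∀ {A B B₀ C C₀ : Type u} [CommRing A] [CommRing B] [CommRing B₀] [CommRing C]
      [CommRing C₀] (φ : A →+* B) (ψ : B →+* C) (φ₀ : B₀ →+* C₀) (πB : B →+* B₀)
      (πC : C →+* C₀), Function.Surjective πB → Function.Surjective πC →
      φ₀.comp πB = πC.comp ψ → ∀ {I : Ideal A}, IsNilpotent I → RingHom.ker πB = I.map φ →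
      RingHom.ker πC = I.map (ψ.comp φ) → (ψ.comp φ).Flat → Q φ₀ → Q ψ)
    (h : P f) : P f' := by
  have := hS.1.1
  have : IsClosedImmersion iY := MorphismProperty.of_isPullback hcY.flip inferInstance
  have : IsClosedImmersion iX := MorphismProperty.of_isPullback hcX.flip inferInstance
  rw [HasRingHomProperty.iff_exists_appLE (P := P) hQ]
  intro x
  obtain ⟨U, hU, hxU, -⟩ :=
    exists_isAffineOpen_mem_and_subset (x := g' (f' x)) (U := ⊤) (Set.mem_univ _)
  obtain ⟨V, hV, hxV, hVU'⟩ := exists_isAffineOpen_mem_and_subset (x := f' x) (U := g' ⁻¹ᵁ U) hxU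
  obtain ⟨W, hW, hxW, hWV'⟩ := exists_isAffineOpen_mem_and_subset (x := x) (U := f' ⁻¹ᵁ V) hxV
  have hVU : V ≤ g' ⁻¹ᵁ U := hVU'
  have hWV : W ≤ f' ⁻¹ᵁ V := hWV'
  have hWU : W ≤ (f' ≫ g') ⁻¹ᵁ U := hWV.trans fun z hz => hVU hz
  have e0 : iX ⁻¹ᵁ W ≤ f ⁻¹ᵁ (iY ⁻¹ᵁ V) := fun z hz => by
    show iY (f z) ∈ V
    rw [← Scheme.Hom.comp_apply, ← w]
    exact hWV hz
  have hcomp : (f'.appLE V W hWV).hom.comp (g'.appLE U V hVU).hom =
      ((f' ≫ g').appLE U W hWU).hom := by
    rw [← CommRingCat.hom_comp, Scheme.Hom.appLE_comp_appLE]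
  refine ⟨⟨V, hV⟩, ⟨W, hW⟩, hxW, hWV, alg (g'.appLE U V hVU).hom _
    (f.appLE (iY ⁻¹ᵁ V) (iX ⁻¹ᵁ W) e0).hom (iY.app V).hom (iX.app W).hom
    (iY.app_surjective V hV) (iX.app_surjective W hW) ?_
    (FlatMorThick.isNilpotent_ideal hS.2 ⟨U, hU⟩) ?_ ?_ ?_
    (HasRingHomProperty.appLE P f h ⟨_, hV.preimage iY⟩ ⟨_, hW.preimage iX⟩ e0)⟩
  · rw [← CommRingCat.hom_comp, ← CommRingCat.hom_comp, Scheme.Hom.app_eq_appLE,
      Scheme.Hom.app_eq_appLE, Scheme.Hom.appLE_comp_appLE, Scheme.Hom.appLE_comp_appLE]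
    simp only [w]
  · rw [← FSchLib.ideal_comap_eq_map g' _ ⟨V, hV⟩ ⟨U, hU⟩ hVU,
      ← FlatMorThick.ker_eq_comap_of_isPullback hcY, Scheme.Hom.ker_apply]
  · rw [hcomp, ← FSchLib.ideal_comap_eq_map (f' ≫ g') _ ⟨W, hW⟩ ⟨U, hU⟩ hWU,
      ← FlatMorThick.ker_eq_comap_of_isPullback hcX, Scheme.Hom.ker_apply]
  · rw [hcomp]
    exact (f' ≫ g').flat_appLE hU hW hWU

variable [Flat (f' ≫ g')]

include hS hcX hcY w

theorem flat_iff : Flat f ↔ Flat f' :=
  ⟨prop_of_algebra hS hcX hcY w @Flat
      (RingHom.Flat.stableUnderComposition.stableUnderCompositionWithLocalizationAway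
        RingHom.Flat.holdsForLocalizationAway).left flat_of_nilpotent,
    fun h => MorphismProperty.of_isPullback (isPullback_top hcX hcY w) h⟩

theorem lfp_iff : LocallyOfFinitePresentation f ↔ LocallyOfFinitePresentation f' :=
  ⟨prop_of_algebra hS hcX hcY w @LocallyOfFinitePresentation
      (RingHom.finitePresentation_stableUnderComposition.stableUnderCompositionWithLocalizationAway
        RingHom.finitePresentation_holdsForLocalizationAway).left finitePresentation_of_nilpotent,
    fun h => MorphismProperty.of_isPullback (isPullback_top hcX hcY w) h⟩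

theorem isIso_iff : IsIso f ↔ IsIso f' := by
  have hc := isPullback_top hcX hcY w
  have hY := isFiniteOrderThickening_of_isPullback hS hcY
  have hX := FlatMorThick.isThickening_of_isPullback iX iY f f' hY.1 hc
  refine ⟨fun _ => ?_, fun h => MorphismProperty.of_isPullback
    (P := MorphismProperty.isomorphisms Scheme.{u}) hc h⟩
  have : Mono f' := (mono_iff hY hc).1 inferInstance
  have : Flat f' := (flat_iff hS hcX hcY w).1 inferInstance
  have : QuasiCompact f' :=
    (FlatMorThick.thickening_quasiCompact_iff iX iY f f' hX hY.1 w).1 inferInstance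
  have : Surjective f' := by
    have := hY.1.2
    have : Surjective (iX ≫ f') := w ▸ inferInstance
    exact Surjective.of_comp iX f'
  exact Flat.isIso_of_surjective_of_mono f'

theorem isOpenImmersion_iff : IsOpenImmersion f ↔ IsOpenImmersion f' := by
  have hc := isPullback_top hcX hcY w
  have hY := isFiniteOrderThickening_of_isPullback hS hcY
  refine ⟨fun _ => ?_, fun h => MorphismProperty.of_isPullback hc h⟩
  have : Mono f' := (mono_iff hY hc).1 inferInstance
  have : Flat f' := (flat_iff hS hcX hcY w).1 inferInstance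
  have : LocallyOfFinitePresentation f' := (lfp_iff hS hcX hcY w).1 inferInstance
  exact IsOpenImmersion.of_flat_of_mono f'

theorem etale_iff : Etale f ↔ Etale f' := by
  have hc := isPullback_top hcX hcY w
  have hY := isFiniteOrderThickening_of_isPullback hS hcY
  refine ⟨fun _ => ?_, fun h => MorphismProperty.of_isPullback hc h⟩
  have : FormallyUnramified f' := (formallyUnramified_iff hY hc).1 inferInstance
  have : Flat f' := (flat_iff hS hcX hcY w).1 inferInstance
  have : LocallyOfFinitePresentation f' := (lfp_iff hS hcX hcY w).1 inferInstance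
  exact Etale.of_formallyUnramified_of_flat f'

theorem smooth_iff : Smooth f ↔ Smooth f' := by
  have hc := isPullback_top hcX hcY w
  have hY := isFiniteOrderThickening_of_isPullback hS hcY
  refine ⟨fun hf => ?_, fun h => MorphismProperty.of_isPullback hc h⟩
  have : Flat f' := (flat_iff hS hcX hcY w).1 inferInstance
  have : LocallyOfFinitePresentation f' := (lfp_iff hS hcX hcY w).1 inferInstance
  have := hY.1.1; have := hY.1.2
  refine Smooth.of_smooth_fiberToSpecResidueField f' fun y => ?_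
  obtain ⟨y, rfl⟩ := iY.surjective y
  exact FlatMorThick.prop_fiber_of_pullback @Smooth hc hf y

theorem isFinLocFree_iff : Mor2.IsFinLocFree f ↔ Mor2.IsFinLocFree f' := by
  have hc := isPullback_top hcX hcY w
  have hY := isFiniteOrderThickening_of_isPullback hS hcY
  have hX := FlatMorThick.isThickening_of_isPullback iX iY f f' hY.1 hc
  refine ⟨fun ⟨h1, h2, h3⟩ => ?_, fun ⟨h1, h2, h3⟩ => ⟨MorphismProperty.of_isPullback hc h1,
    MorphismProperty.of_isPullback hc h2, MorphismProperty.of_isPullback hc h3⟩⟩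
  have hp : LocallyOfFinitePresentation f' := (lfp_iff hS hcX hcY w).1 h3
  refine ⟨(IsFinite.iff_isIntegralHom_and_locallyOfFiniteType f').2 ⟨?_, inferInstance⟩,
    (flat_iff hS hcX hcY w).1 h2, hp⟩
  exact (FlatMorThick.thickening_isIntegralHom_iff iX iY f f' hX hY.1 w).1 inferInstance

theorem isFinLocFreeOfDeg_iff (d : ℕ) :
    Mor2.IsFinLocFreeOfDeg d f ↔ Mor2.IsFinLocFreeOfDeg d f' := by
  have hc := isPullback_top hcX hcY w
  have hY := isFiniteOrderThickening_of_isPullback hS hcY
  have := hY.1.2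
  constructor
  · rintro ⟨h, hd⟩
    have h' := (isFinLocFree_iff hS hcX hcY w).1 h
    have := h'.1; have := h'.2.1
    refine ⟨h', fun y => ?_⟩
    obtain ⟨y, rfl⟩ := iY.surjective y
    rw [← Scheme.Hom.finrank_of_isPullback iX f f' iY hc y, hd]
  · rintro ⟨h', hd⟩
    have := h'.1; have := h'.2.1
    exact ⟨(isFinLocFree_iff hS hcX hcY w).2 h', fun y => by
      rw [Scheme.Hom.finrank_of_isPullback iX f f' iY hc y, hd]⟩

end Groth.Agent.FlatMorDeform
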