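import Mathlib.RingTheory.Kaehler.Basic
import Mathlib.RingTheory.Unramified.Basic
import Mathlib.RingTheory.RingHom.FinitePresentation
import Mathlib.RingTheory.RingHom.Unramified
import Mathlib.RingTheory.RingHom.Flat
import Mathlib.RingTheory.TensorProduct.Quotient
import Groth.Agent.CAlgMisc2.FlatNil
import Groth.Agent.FSchLib.Thickening

/-!
# Algebras over a ring with a nilpotent ideal: properties detected modulo the ideal
-/

universe u

set_option autoImplicit false
set_option backward.isDefEq.respectTransparency false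

open TensorProduct Function

namespace Groth.Agent.FlatMorDeform

/-- `B / IB` formally unramified over `A` with `I` nilpotent gives `B` formally unramified. -/
theorem formallyUnramified_of_nilpotent {A B B₀ : Type u} [CommRing A] [CommRing B] [CommRing B₀]
    (φ : A →+* B) (π : B →+* B₀) (hπ : Surjective π) {I : Ideal A} (hI : IsNilpotent I)
    (hker : RingHom.ker π = I.map φ) (h : (π.comp φ).FormallyUnramified) :
    φ.FormallyUnramified := by
  let _ := φ.toAlgebra
  let _ := π.toAlgebra
  let _ := (π.comp φ).toAlgebra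
  have : IsScalarTower A B B₀ := .of_algebraMap_eq fun _ => rfl
  have : Algebra.FormallyUnramified A B₀ := h
  show Algebra.FormallyUnramified A B
  refine ⟨?_⟩
  have hzero : ∀ x ∈ I.map φ, (1 : B₀) ⊗ₜ[B] KaehlerDifferential.D A B x = 0 := by
    intro x hx
    induction hx using Submodule.span_induction with
    | mem y hy =>
      obtain ⟨a, -, rfl⟩ := hy
      rw [show φ a = algebraMap A B a from rfl, Derivation.map_algebraMap, tmul_zero]
    | zero => rw [map_zero, tmul_zero]
    | add y z _ _ hy hz => rw [map_add, tmul_add, hy, hz, add_zero]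
    | smul b y hy' hy =>
      have h0 : π y = 0 := by rw [← RingHom.mem_ker, hker]; exact hy'
      rw [smul_eq_mul, Derivation.leibniz, tmul_add, tmul_smul, hy, smul_zero, zero_add,
        ← smul_tmul, show y • (1 : B₀) = 0 by rw [Algebra.smul_def, mul_one]; exact h0, zero_tmul]
  have hsub : Subsingleton (B₀ ⊗[B] Ω[B⁄A]) := by
    refine subsingleton_iff_forall_eq 0 |>.2 fun z => ?_
    obtain ⟨w, hw⟩ := (KaehlerDifferential.exact_kerCotangentToTensor_mapBaseChange A B B₀ hπ z).1
      (Subsingleton.elim _ _)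
    obtain ⟨⟨x, hx⟩, rfl⟩ := (RingHom.ker (algebraMap B B₀)).toCotangent_surjective w
    rw [← hw, KaehlerDifferential.kerCotangentToTensor_toCotangent]
    exact hzero x (hker ▸ hx)
  rw [← Submodule.subsingleton_iff B, ← subsingleton_iff_bot_eq_top]
  refine FSchLib.eq_top_of_nilpotent_smul (M := Ω[B⁄A]) (I := I.map φ) (N := ⊥) ?_ ?_
  · obtain ⟨n, hn⟩ := hI
    exact ⟨n, by rw [← Ideal.map_pow, hn, Ideal.zero_eq_bot, Ideal.map_bot, Ideal.zero_eq_bot]⟩
  · rw [bot_sup_eq]
    intro z _
    let J : Ideal B := RingHom.ker (Algebra.ofId B B₀)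
    let e := TensorProduct.quotTensorEquivQuotSMul (Ω[B⁄A]) J
    let e₀ : (B ⧸ J) ≃ₗ[B] B₀ :=
      (Ideal.quotientKerAlgEquivOfSurjective (f := Algebra.ofId B B₀) hπ).toLinearEquiv
    have : Subsingleton ((B ⧸ J) ⊗[B] Ω[B⁄A]) := (e₀.rTensor _).injective.subsingleton
    have := e.surjective.subsingleton
    have hJ : J = I.map φ := hker
    rw [← hJ]
    exact (Submodule.Quotient.mk_eq_zero _).1 (Subsingleton.elim _ _)

theorem quotFlat_of_flat_quotient {B M : Type u} [CommRing B] [AddCommGroup M] [Module B M]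
    (J : Ideal B) [Module.Flat (B ⧸ J) ((B ⧸ J) ⊗[B] M)] : FlatCrit.QuotFlat B M J := by
  intro P Q _ _ _ _ i hQ hi
  have hP : ∀ r ∈ J, ∀ p : P, r • p = 0 := fun r hr p => hi (by rw [map_smul, hQ r hr, map_zero])
  let _ : Module (B ⧸ J) Q := Module.IsTorsionBySet.module (fun x r => hQ r r.2 x)
  let _ : Module (B ⧸ J) P := Module.IsTorsionBySet.module (fun x r => hP r r.2 x)
  let i' : P →ₗ[B ⧸ J] Q :=
    { toFun := i
      map_add' := i.map_add
      map_smul' := fun r p => by
        obtain ⟨r, rfl⟩ := Ideal.Quotient.mk_surjective r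
        exact i.map_smul r p }
  exact CAlgMisc2.rTensor_injective_of_flat_baseChange (R := B) (S := B ⧸ J) i' hi

/-- The nilpotent fibre criterion: `C` flat over `A` and `C / IC` flat over `B / IB`. -/
theorem flat_of_nilpotent {A B B₀ C C₀ : Type u} [CommRing A] [CommRing B] [CommRing B₀]
    [CommRing C] [CommRing C₀] (φ : A →+* B) (ψ : B →+* C) (φ₀ : B₀ →+* C₀) (πB : B →+* B₀)
    (πC : C →+* C₀) (hB : Surjective πB) (hC : Surjective πC) (hw : φ₀.comp πB = πC.comp ψ)
    {I : Ideal A} (hI : IsNilpotent I) (hkB : RingHom.ker πB = I.map φ)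
    (hkC : RingHom.ker πC = I.map (ψ.comp φ)) (hflat : (ψ.comp φ).Flat) (h₀ : φ₀.Flat) :
    ψ.Flat := by
  let _ := φ.toAlgebra
  let _ := ψ.toAlgebra
  let _ := (ψ.comp φ).toAlgebra
  have : IsScalarTower A B C := .of_algebraMap_eq fun _ => rfl
  have : Module.Flat A C := hflat
  let J := I.map φ
  have hJC : J.map (algebraMap B C) = RingHom.ker πC := by
    rw [hkC]; exact Ideal.map_map φ ψ
  let eB : B ⧸ J ≃+* B₀ :=
    (Ideal.quotEquivOfEq hkB.symm).trans (RingHom.quotientKerEquivOfSurjective hB)
  let eC : (B ⧸ J) ⊗[B] C ≃+* C₀ :=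
    (Algebra.TensorProduct.quotIdealMapEquivQuotTensor C J).symm.toRingEquiv.trans
      ((Ideal.quotEquivOfEq hJC).trans (RingHom.quotientKerEquivOfSurjective hC))
  have : Module.Flat (B ⧸ J) ((B ⧸ J) ⊗[B] C) := by
    rw [← RingHom.flat_algebraMap_iff]
    have : algebraMap (B ⧸ J) ((B ⧸ J) ⊗[B] C) = eC.symm.toRingHom.comp (φ₀.comp eB.toRingHom) := by
      refine Ideal.Quotient.ringHom_ext (RingHom.ext fun b => eC.injective ?_)
      show eC _ = eC (eC.symm (φ₀ (eB (Ideal.Quotient.mk J b))))
      rw [eC.apply_symm_apply, show eB (Ideal.Quotient.mk J b) = πB b from rfl,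
        ← RingHom.comp_apply, hw]
      show eC ((Ideal.Quotient.mk J b) ⊗ₜ[B] (1 : C)) = _
      rw [show (Ideal.Quotient.mk J b) ⊗ₜ[B] (1 : C) = (1 : B ⧸ J) ⊗ₜ[B] ψ b by
        rw [← mul_one (Ideal.Quotient.mk J b), show ψ b = b • (1 : C) by
          rw [Algebra.smul_def, mul_one]; rfl, ← smul_tmul]; rfl]
      rw [← Algebra.TensorProduct.quotIdealMapEquivQuotTensor_mk]
      simp only [eC, RingEquiv.trans_apply, AlgEquiv.coe_ringEquiv,
        AlgEquiv.symm_apply_apply]
      rfl
    rw [this]
    exact ((RingHom.Flat.of_bijective eB.bijective).comp h₀).comp (.of_bijective eC.symm.bijective)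
  have h2 := quotFlat_of_flat_quotient (M := C) J
  have h1 : Injective (J.subtype.rTensor C) := by
    let κ : I →ₗ[A] J := (Algebra.linearMap A B ∘ₗ I.subtype).codRestrict (J.restrictScalars A)
      fun a => Ideal.mem_map_of_mem _ a.2
    let T : I ⊗[A] C →ₗ[A] J ⊗[B] C := TensorProduct.lift
      (((TensorProduct.mk B J C).restrictScalars₁₂ A A) ∘ₗ κ)
    have hTsurj : ∀ z, z ∈ Set.range T := by
      intro z
      induction z with
      | zero => exact ⟨0, map_zero _⟩
      | add x y hx hy =>
        obtain ⟨x, rfl⟩ := hx; obtain ⟨y, rfl⟩ := hy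
        exact ⟨x + y, map_add _ _ _⟩
      | tmul j c =>
        obtain ⟨j, hj⟩ := j
        induction hj using Submodule.span_induction generalizing c with
        | mem y hy =>
          obtain ⟨a, ha, rfl⟩ := hy
          exact ⟨⟨a, ha⟩ ⊗ₜ c, rfl⟩
        | zero => exact ⟨0, by rw [map_zero]; exact (zero_tmul _ c).symm⟩
        | add y z hy hz hy' hz' =>
          obtain ⟨p, hp⟩ := hy' c; obtain ⟨q, hq⟩ := hz' c
          exact ⟨p + q, by rw [map_add, hp, hq, ← add_tmul]; rfl⟩
        | smul b y hy hy' =>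
          obtain ⟨p, hp⟩ := hy' (b • c)
          exact ⟨p, by rw [hp, ← smul_tmul]; rfl⟩
    have hcomm : ∀ x, TensorProduct.lid B C (J.subtype.rTensor C (T x)) =
        TensorProduct.lid A C (I.subtype.rTensor C x) := by
      intro x
      induction x with
      | zero => simp
      | add x y hx hy => simp only [map_add, hx, hy]
      | tmul a c =>
        simp only [T, TensorProduct.lift.tmul, LinearMap.rTensor_tmul, TensorProduct.lid_tmul]
        exact algebraMap_smul B (a : A) c
    intro z z' hzz'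
    obtain ⟨x, rfl⟩ := hTsurj z
    obtain ⟨x', rfl⟩ := hTsurj z'
    have := congrArg (TensorProduct.lid B C) hzz'
    rw [hcomm, hcomm] at this
    exact congrArg T (Module.Flat.rTensor_preserves_injective_linearMap I.subtype
      I.injective_subtype ((TensorProduct.lid A C).injective this))
  exact FlatCrit.flat_of_isNilpotent h1 h2 (hI.map (Ideal.mapHom φ))

/-- The nilpotent criterion for finite presentation of `C` over `B`, for `C` flat over `A`. -/
theorem finitePresentation_of_nilpotent {A B B₀ C C₀ : Type u} [CommRing A] [CommRing B]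
    [CommRing B₀] [CommRing C] [CommRing C₀] (φ : A →+* B) (ψ : B →+* C) (φ₀ : B₀ →+* C₀)
    (πB : B →+* B₀) (πC : C →+* C₀) (hB : Surjective πB) (hC : Surjective πC)
    (hw : φ₀.comp πB = πC.comp ψ)
    {I : Ideal A} (hI : IsNilpotent I) (hkB : RingHom.ker πB = I.map φ)
    (hkC : RingHom.ker πC = I.map (ψ.comp φ)) (hflat : (ψ.comp φ).Flat)
    (h₀ : φ₀.FinitePresentation) : ψ.FinitePresentation := by
  have hft : ψ.FiniteType := by
    refine FSchLib.finiteType_of_nilpotent ψ πC hC (hI.map (Ideal.mapHom φ)) ?_ ?_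
    · rw [hkC, Ideal.mapHom_apply]; exact ((Ideal.map_map φ ψ).symm).le
    · rw [← hw]; exact (RingHom.FiniteType.of_finitePresentation (f := φ₀) h₀).comp (RingHom.FiniteType.of_surjective _ hB)
  let _ := φ.toAlgebra
  let _ := ψ.toAlgebra
  let _ := (ψ.comp φ).toAlgebra
  have : IsScalarTower A B C := .of_algebraMap_eq fun _ => rfl
  have : Module.Flat A C := hflat
  have : Algebra.FiniteType B C := hft
  obtain ⟨n, π, hπ⟩ := Algebra.FiniteType.iff_quotient_mvPolynomial''.1 this
  let P := MvPolynomial (Fin n) B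
  let κ : B →+* P := MvPolynomial.C
  have hκ : π.toRingHom.comp κ = ψ := RingHom.ext fun b => π.commutes b
  let IP : Ideal P := I.map (κ.comp φ)
  let K := RingHom.ker π.toRingHom
  have hsup : RingHom.ker (πC.comp π.toRingHom) = K ⊔ IP := by
    rw [← RingHom.comap_ker, hkC, ← hκ, RingHom.comp_assoc, ← Ideal.map_map,
      Ideal.comap_map_of_surjective π.toRingHom hπ, sup_comm]
    rfl
  let g : MvPolynomial (Fin n) B₀ →+* C₀ :=
    MvPolynomial.eval₂Hom φ₀ fun i => πC (π (MvPolynomial.X i))
  have hg : g.comp (MvPolynomial.map πB) = πC.comp π.toRingHom := by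
    refine MvPolynomial.ringHom_ext (fun b => ?_) (fun i => ?_)
    · simp only [g, RingHom.comp_apply, MvPolynomial.map_C, MvPolynomial.eval₂Hom_C]
      rw [← RingHom.comp_apply, hw, ← hκ]
      rfl
    · simp [g]
  have hgsurj : Surjective g := fun c => by
    obtain ⟨c, rfl⟩ := hC c
    obtain ⟨p, rfl⟩ := hπ c
    exact ⟨MvPolynomial.map πB p, RingHom.congr_fun hg p⟩
  let _ := φ₀.toAlgebra
  have : Algebra.FinitePresentation B₀ C₀ := h₀
  let gA : MvPolynomial (Fin n) B₀ →ₐ[B₀] C₀ :=
    { __ := g
      commutes' := fun b => by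
        show g (MvPolynomial.C b) = φ₀ b
        simp [g] }
  obtain ⟨s, hs⟩ := Algebra.FinitePresentation.ker_fG_of_surjective gA hgsurj
  classical
  have hmap : Surjective (MvPolynomial.map πB : P →+* _) := MvPolynomial.map_surjective _ hB
  have hker : RingHom.ker (MvPolynomial.map πB : P →+* _) = IP := by
    rw [MvPolynomial.ker_map, hkB]; exact Ideal.map_map φ κ
  have hlift : ∀ q ∈ RingHom.ker g, ∃ k ∈ K, MvPolynomial.map πB k = q := by
    intro q hq
    obtain ⟨p, rfl⟩ := hmap q
    have : p ∈ K ⊔ IP := by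
      rw [← hsup, RingHom.mem_ker, ← hg]; exact hq
    obtain ⟨k, hk, i, hi, rfl⟩ := Submodule.mem_sup.1 this
    rw [← hker, RingHom.mem_ker] at hi
    exact ⟨k, hk, by rw [map_add, hi, add_zero]⟩
  choose k hk hk' using hlift
  let L : Ideal P := Ideal.span (s.attach.image fun q =>
    k q.1 (show q.1 ∈ RingHom.ker g from hs ▸ Submodule.subset_span q.2) : Finset P)
  have hLK : L ≤ K := by
    rw [Ideal.span_le]
    intro x hx
    obtain ⟨q, -, rfl⟩ := Finset.mem_image.1 hx
    exact hk _ _
  have hKL : K ≤ L ⊔ IP := by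
    intro x hx
    have hle : RingHom.ker g ≤ L.map (MvPolynomial.map πB) := by
      refine le_of_eq_of_le (show RingHom.ker g = Ideal.span (s : Set _) from hs.symm) ?_
      rw [Ideal.span_le]
      intro q hq
      have hq' : q ∈ RingHom.ker g := hs ▸ Submodule.subset_span hq
      rw [← hk' q hq']
      exact Ideal.mem_map_of_mem _
        (Ideal.subset_span (Finset.mem_image.2 ⟨⟨q, hq⟩, Finset.mem_attach _ _, rfl⟩))
    have : MvPolynomial.map πB x ∈ L.map (MvPolynomial.map πB) := hle (by
      rw [RingHom.mem_ker, ← RingHom.comp_apply, hg, RingHom.comp_apply, RingHom.mem_ker.1 hx,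
        map_zero])
    rwa [← Ideal.mem_comap, Ideal.comap_map_of_surjective _ hmap, ← RingHom.ker_eq_comap_bot,
      hker] at this
  -- `K ⊓ IP = IP * K` by flatness
  have hinf : ∀ x ∈ K, x ∈ IP → x ∈ IP * K := by
    intro x hxK hxI
    let f : P →ₗ[A] C := (π.toLinearMap.restrictScalars A : P →ₗ[A] C)
    let ιK : (K.restrictScalars A) →ₗ[A] P := (K.restrictScalars A).subtype
    have hex : Exact ιK f := fun y => ⟨fun hy => ⟨⟨y, hy⟩, rfl⟩, by rintro ⟨⟨y, hy⟩, rfl⟩; exact hy⟩
    obtain ⟨z, hz⟩ : ∃ z : I ⊗[A] P, TensorProduct.lid A P (I.subtype.rTensor P z) = x := by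
      clear hxK
      induction hxI using Submodule.span_induction with
      | mem y hy =>
        obtain ⟨a, ha, rfl⟩ := hy
        exact ⟨⟨a, ha⟩ ⊗ₜ 1, by simp [Algebra.smul_def]; rfl⟩
      | zero => exact ⟨0, by simp⟩
      | add y z _ _ hy hz =>
        obtain ⟨p, hp⟩ := hy; obtain ⟨q, hq⟩ := hz
        exact ⟨p + q, by simp [hp, hq]⟩
      | smul b y _ hy =>
        obtain ⟨p, hp⟩ := hy
        refine ⟨(LinearMap.mulLeft A b).lTensor I p, ?_⟩
        rw [← hp, smul_eq_mul]
        clear hp
        induction p with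
        | zero => simp
        | add u v hu hv => simp only [map_add, mul_add, hu, hv]
        | tmul a c => simp
    have hcomm : ∀ w, f (TensorProduct.lid A P (I.subtype.rTensor P w)) =
        TensorProduct.lid A C (I.subtype.rTensor C (f.lTensor I w)) := by
      intro w
      induction w with
      | zero => simp
      | add u v hu hv => simp only [map_add, hu, hv]
      | tmul a c => simp
    have : f.lTensor I z = 0 := by
      apply Module.Flat.rTensor_preserves_injective_linearMap I.subtype I.injective_subtype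
      apply (TensorProduct.lid A C).injective
      rw [← hcomm, hz, map_zero, map_zero]
      exact hxK
    obtain ⟨w, rfl⟩ := (lTensor_exact (I : Type u) hex (by exact hπ) z).1 this
    rw [← hz]
    clear hz this
    induction w with
    | zero => simp
    | add u v hu hv => simp only [map_add]; exact add_mem hu hv
    | tmul a c =>
      simp only [LinearMap.lTensor_tmul, LinearMap.rTensor_tmul, TensorProduct.lid_tmul,
        Algebra.smul_def]
      exact Ideal.mul_mem_mul (Ideal.mem_map_of_mem _ a.2) c.2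
  have hKeq : K = L := by
    refine le_antisymm ?_ hLK
    have hrec : ∀ m : ℕ, K ≤ L ⊔ IP ^ m * K := by
      intro m
      induction m with
      | zero => simp
      | succ m ih =>
        have hstep : K ≤ L ⊔ IP * K := fun x hx => by
          obtain ⟨l, hl, i, hi, rfl⟩ := Submodule.mem_sup.1 (hKL hx)
          exact Submodule.add_mem_sup hl (hinf i (by simpa using K.sub_mem hx (hLK hl)) hi)
        refine ih.trans (sup_le le_sup_left ((Ideal.mul_mono_right hstep).trans ?_))
        rw [Ideal.mul_sup, ← mul_assoc, ← pow_succ]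
        exact sup_le_sup_right Ideal.mul_le_right _
    obtain ⟨m, hm⟩ := hI
    refine (hrec m).trans ?_
    rw [show IP ^ m = ⊥ by rw [← Ideal.map_pow, hm, Ideal.zero_eq_bot, Ideal.map_bot],
      Ideal.bot_mul, sup_bot_eq]
  exact Algebra.FinitePresentation.of_surjective (f := π) hπ ⟨_, hKeq.symm⟩

end Groth.Agent.FlatMorDeform
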