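import Groth.Agent.FlatMor12.FibreFlat
import Mathlib.RingTheory.Polynomial.Basic
import Mathlib.LinearAlgebra.TensorProduct.RightExactness

/-!
# The fibre criterion of flatness with the middle scheme only locally of finite type
-/

universe u

set_option autoImplicit false
set_option backward.isDefEq.respectTransparency false

open TensorProduct Function CategoryTheory Limits AlgebraicGeometry

namespace Groth.Agent.FlatMorDeform

theorem flat_of_surjective_comp {B₁ B C : Type u} [CommRing B₁] [CommRing B] [CommRing C]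
    (π : B₁ →+* B) (hπ : Surjective π) (g : B →+* C) (h : (g.comp π).Flat) : g.Flat := by
  let _ := π.toAlgebra
  let _ := g.toAlgebra
  let _ := (g.comp π).toAlgebra
  have : IsScalarTower B₁ B C := .of_algebraMap_eq fun _ => rfl
  have : Module.Flat B₁ C := h
  let L : B ⊗[B₁] C →ₗ[B] C := (LinearMap.id : C →ₗ[B₁] C).liftBaseChange B
  have hone : ∀ z : B ⊗[B₁] C, ∃ c, z = 1 ⊗ₜ[B₁] c := by
    intro z
    induction z with
    | zero => exact ⟨0, (tmul_zero _ _).symm⟩
    | add x y hx hy =>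
      obtain ⟨c, rfl⟩ := hx; obtain ⟨d, rfl⟩ := hy
      exact ⟨c + d, (tmul_add _ _ _).symm⟩
    | tmul b c =>
      obtain ⟨a, rfl⟩ := hπ b
      refine ⟨a • c, ?_⟩
      rw [← smul_tmul, Algebra.smul_def, mul_one]
      rfl
  have hL : ∀ c : C, L (1 ⊗ₜ c) = c := fun c => by simp [L]
  refine Module.Flat.of_linearEquiv (LinearEquiv.ofBijective L ⟨fun x y hxy => ?_,
    fun c => ⟨_, hL c⟩⟩).symm
  obtain ⟨c, rfl⟩ := hone x
  obtain ⟨d, rfl⟩ := hone y
  rw [hL, hL] at hxy
  rw [hxy]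

variable {A B C : Type u} [CommRing A] [CommRing B] [CommRing C] [Algebra A B] [Algebra A C]
  [Algebra B C] [IsScalarTower A B C]

/-- A finitely presented algebra surjecting onto `B` with the same fibre over `p`. -/
theorem exists_fp_cover [Algebra.FiniteType A B] (K : Type u) [Field K] [Algebra A K] :
    ∃ (B₁ : Type u) (_ : CommRing B₁) (_ : Algebra A B₁) (π : B₁ →ₐ[A] B),
      Algebra.FinitePresentation A B₁ ∧ Surjective π ∧
      Injective (Algebra.TensorProduct.map (AlgHom.id A K) π) := by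
  obtain ⟨n, π, hπ⟩ := Algebra.FiniteType.iff_quotient_mvPolynomial''.1 ‹Algebra.FiniteType A B›
  let P := MvPolynomial (Fin n) A
  let J : Ideal P := RingHom.ker π
  have : IsNoetherianRing (K ⊗[A] P) :=
    isNoetherianRing_of_ringEquiv _ (MvPolynomial.scalarRTensorAlgEquiv (R := A) (σ := Fin n)
      (N := K)).symm.toRingEquiv
  let ι : P →+* K ⊗[A] P := Algebra.TensorProduct.includeRight.toRingHom
  obtain ⟨s, hs⟩ := (inferInstance : IsNoetherian (K ⊗[A] P) (K ⊗[A] P)).noetherian (J.map ι)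
  obtain ⟨t, htJ, ht⟩ : ∃ t : Finset P, (t : Set P) ⊆ J ∧ (s : Set (K ⊗[A] P)) ⊆
      (Ideal.span (ι '' (t : Set P)) : Ideal _) := by
    classical
    have hmem : ∀ x ∈ s, ∃ T : Finset P, (T : Set P) ⊆ J ∧ x ∈ Ideal.span (ι '' (T : Set P)) := by
      intro x hx
      have hx' : x ∈ J.map ι := hs ▸ Submodule.subset_span hx
      obtain ⟨T, hT, hxT⟩ := Submodule.mem_span_finite_of_mem_span hx'
      obtain ⟨T', hT', rfl⟩ := Finset.subset_set_image_iff.1 hT
      exact ⟨T', hT', by simpa using hxT⟩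
    choose T hT hxT using hmem
    refine ⟨s.attach.biUnion fun x => T x.1 x.2, ?_, fun x hx => ?_⟩
    · simp only [Finset.coe_biUnion, Set.iUnion_subset_iff]
      exact fun x _ => hT x.1 x.2
    · refine Ideal.span_mono (Set.image_mono ?_) (hxT x hx)
      exact Finset.subset_biUnion_of_mem (fun y : {y // y ∈ s} => T y.1 y.2)
        (Finset.mem_attach s ⟨x, hx⟩)
  let J₁ : Ideal P := Ideal.span t
  have hle : J₁ ≤ J := Ideal.span_le.2 htJ
  have hJ₁ : J₁.FG := ⟨t, rfl⟩
  let π₁ : (P ⧸ J₁) →ₐ[A] B := Ideal.Quotient.liftₐ J₁ π fun x hx => hle hx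
  have hπ₁ : Surjective π₁ := fun b => by
    obtain ⟨p, rfl⟩ := hπ b
    exact ⟨Ideal.Quotient.mk _ p, rfl⟩
  refine ⟨P ⧸ J₁, inferInstance, inferInstance, π₁, .quotient hJ₁, hπ₁, ?_⟩
  have hkey : J.map ι ≤ J₁.map ι := by
    have : J.map ι = Ideal.span (s : Set (K ⊗[A] P)) := hs.symm
    rw [this, Ideal.span_le, Ideal.map_span]
    exact ht
  refine (RingHom.injective_iff_ker_eq_bot _).2 ?_
  rw [Algebra.TensorProduct.lTensor_ker _ hπ₁, eq_bot_iff, Ideal.map_le_iff_le_comap]
  intro y hy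
  obtain ⟨p, rfl⟩ := Ideal.Quotient.mk_surjective y
  have hp : p ∈ J := hy
  let q : K ⊗[A] P →ₐ[A] K ⊗[A] (P ⧸ J₁) :=
    Algebra.TensorProduct.map (AlgHom.id A K) (Ideal.Quotient.mkₐ A J₁)
  have hq : J₁.map ι ≤ RingHom.ker q := by
    rw [Ideal.map_le_iff_le_comap]
    intro x hx
    show q (1 ⊗ₜ x) = 0
    rw [Algebra.TensorProduct.map_tmul, Ideal.Quotient.mkₐ_eq_mk,
      Ideal.Quotient.eq_zero_iff_mem.2 hx, tmul_zero]
  have := hq (hkey (Ideal.mem_map_of_mem ι hp))
  simpa [q, ι] using this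

theorem flat_of_fibre_affine [Algebra.FiniteType A B] [Algebra.FinitePresentation A C]
    (q : Ideal C) [q.IsPrime] (hflat : Module.Flat A (Localization.AtPrime q))
    (hfib : (Algebra.TensorProduct.map (AlgHom.id A (q.comap (algebraMap A C)).ResidueField)
      (IsScalarTower.toAlgHom A B C)).Flat) :
    ((algebraMap C (Localization.AtPrime q)).comp (algebraMap B C)).Flat := by
  let K := (q.comap (algebraMap A C)).ResidueField
  obtain ⟨B₁, _, _, π, hfp, hπ, hinj⟩ := exists_fp_cover (A := A) (B := B) K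
  let ρ : B₁ →ₐ[A] C := (IsScalarTower.toAlgHom A B C).comp π
  let _ := ρ.toRingHom.toAlgebra
  have : IsScalarTower A B₁ C := .of_algebraMap_eq fun a => (ρ.commutes a).symm
  have : Algebra.FinitePresentation B₁ C :=
    Algebra.FinitePresentation.of_restrict_scalars_finitePresentation A B₁ C
  refine flat_of_surjective_comp π.toRingHom hπ _ ?_
  have hsurj : Surjective (Algebra.TensorProduct.map (AlgHom.id A K) π) :=
    TensorProduct.map_surjective surjective_id hπ
  have h : (Algebra.TensorProduct.map (AlgHom.id A K) (IsScalarTower.toAlgHom A B₁ C)).Flat := by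
    have he : (Algebra.TensorProduct.map (AlgHom.id A K) (IsScalarTower.toAlgHom A B₁ C)).toRingHom =
        (Algebra.TensorProduct.map (AlgHom.id A K) (IsScalarTower.toAlgHom A B C)).toRingHom.comp
          (Algebra.TensorProduct.map (AlgHom.id A K) π).toRingHom := by
      refine RingHom.ext fun x => ?_
      show Algebra.TensorProduct.map (AlgHom.id A K) (IsScalarTower.toAlgHom A B₁ C) x =
        Algebra.TensorProduct.map (AlgHom.id A K) (IsScalarTower.toAlgHom A B C)
          (Algebra.TensorProduct.map (AlgHom.id A K) π x)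
      induction x using TensorProduct.induction_on with
      | zero => simp
      | add u v hu hv => simp only [map_add, hu, hv]
      | tmul k b => rfl
    show (Algebra.TensorProduct.map (AlgHom.id A K) (IsScalarTower.toAlgHom A B₁ C)).toRingHom.Flat
    rw [he]
    exact RingHom.Flat.comp (.of_bijective ⟨hinj, hsurj⟩) hfib
  exact FlatMor12.flat_of_fibre_affine (A := A) (B := B₁) q hflat h

/-- The fibre criterion of flatness at a point, with `g` only locally of finite type. -/
theorem flat_stalkMap_of_fibre {X Y S : Scheme.{u}} (f : X ⟶ Y) (g : Y ⟶ S)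
    [LocallyOfFinitePresentation (f ≫ g)] [LocallyOfFiniteType g] (x : X)
    (hflat : ((f ≫ g).stalkMap x).hom.Flat)
    (hfib : Flat (pullback.snd f (g.fiberι (g (f x))))) :
    (f.stalkMap x).hom.Flat := by
  obtain ⟨W, hW, hsW, -⟩ := TopologicalSpace.Opens.isBasis_iff_nbhd.mp S.isBasis_affineOpens
    (TopologicalSpace.Opens.mem_top (g (f x)))
  obtain ⟨V, hV, hyV, eV⟩ := TopologicalSpace.Opens.isBasis_iff_nbhd.mp Y.isBasis_affineOpens
    (show f x ∈ g ⁻¹ᵁ W from hsW)
  obtain ⟨U, hU, hxU, eU⟩ := TopologicalSpace.Opens.isBasis_iff_nbhd.mp X.isBasis_affineOpens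
    (show x ∈ f ⁻¹ᵁ V from hyV)
  let φAB := (g.appLE W V eV).hom
  let φBC := (f.appLE V U eU).hom
  let _ := φAB.toAlgebra
  let _ := φBC.toAlgebra
  let _ := (φBC.comp φAB).toAlgebra
  have : IsScalarTower Γ(S, W) Γ(Y, V) Γ(X, U) := .of_algebraMap_eq fun _ => rfl
  have eWU : U ≤ (f ≫ g) ⁻¹ᵁ W := eU.trans (fun z hz => eV hz)
  have hcomp : ((f ≫ g).appLE W U eWU).hom = φBC.comp φAB := by
    show _ = (g.appLE W V eV ≫ f.appLE V U eU).hom
    rw [Scheme.Hom.appLE_comp_appLE]
  have : Algebra.FiniteType Γ(S, W) Γ(Y, V) :=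
    HasRingHomProperty.appLE @LocallyOfFiniteType g inferInstance ⟨W, hW⟩ ⟨V, hV⟩ eV
  have : Algebra.FinitePresentation Γ(S, W) Γ(X, U) := by
    have h := HasRingHomProperty.appLE @LocallyOfFinitePresentation (f ≫ g) inferInstance ⟨W, hW⟩
      ⟨U, hU⟩ eWU
    rwa [hcomp] at h
  let q := (hU.primeIdealOf ⟨x, hxU⟩).asIdeal
  have hqp : q.comap (algebraMap Γ(S, W) Γ(X, U)) = (hW.primeIdealOf ⟨g (f x), hsW⟩).asIdeal := by
    have := congr($(IsAffineOpen.comap_primeIdealOf_appLE W hW U hU eWU (f := f ≫ g) hxU).1)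
    rw [hcomp] at this
    exact this
  have hA : Module.Flat Γ(S, W) (Localization.AtPrime q) := by
    rw [RingHom.Flat.respectsIso.arrow_mk_iso_iff
      (IsAffineOpen.arrowStalkMapIso (f ≫ g) W hW U hU eWU hxU)] at hflat
    simp only [hcomp] at hflat
    exact (EGA43.FlatDescent.flat_localRingHom_iff (R := Γ(S, W)) (S := Γ(X, U)) _ q hqp.symm).1 hflat
  have hfib' : (Algebra.TensorProduct.map
      (AlgHom.id Γ(S, W) (q.comap (algebraMap Γ(S, W) Γ(X, U))).ResidueField)
      (IsScalarTower.toAlgHom Γ(S, W) Γ(Y, V) Γ(X, U))).Flat := by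
    refine FlatMor12.flat_tensor_of_fibre f g hW.fromSpec hV.fromSpec hU.fromSpec ?_ ?_
      ⟨q.comap (algebraMap Γ(S, W) Γ(X, U)), inferInstance⟩ ?_
    · exact hW.SpecMap_appLE_fromSpec g hV eV
    · exact hV.SpecMap_appLE_fromSpec f hU eU
    · rw [show (⟨q.comap (algebraMap Γ(S, W) Γ(X, U)), inferInstance⟩ : PrimeSpectrum Γ(S, W)) =
        hW.primeIdealOf ⟨g (f x), hsW⟩ from PrimeSpectrum.ext hqp]
      rw [show hW.fromSpec (hW.primeIdealOf ⟨g (f x), hsW⟩) = g (f x) from hW.fromSpec_primeIdealOf _]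
      exact hfib
  have key := flat_of_fibre_affine (A := Γ(S, W)) (B := Γ(Y, V)) q hA hfib'
  have hB : Module.Flat Γ(Y, V) (Localization.AtPrime q) := by
    rw [← RingHom.flat_algebraMap_iff, IsScalarTower.algebraMap_eq Γ(Y, V) Γ(X, U)]
    exact key
  rw [RingHom.Flat.respectsIso.arrow_mk_iso_iff
    (IsAffineOpen.arrowStalkMapIso f V hV U hU eU hxU)]
  exact (EGA43.FlatDescent.flat_localRingHom_iff (R := Γ(Y, V)) (S := Γ(X, U)) _ q
    congr($(IsAffineOpen.comap_primeIdealOf_appLE V hV U hU eU (f := f) hxU).1).symm).2 hB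

theorem flat_of_fibres {X Y S : Scheme.{u}} (f : X ⟶ Y) (g : Y ⟶ S)
    [LocallyOfFiniteType g] [LocallyOfFinitePresentation (f ≫ g)] [Flat (f ≫ g)]
    (h : ∀ s, Flat (pullback.snd f (g.fiberι s))) : Flat f :=
  (Flat.iff_flat_stalkMap f).2 fun x =>
    flat_stalkMap_of_fibre f g x (Flat.stalkMap (f ≫ g) x) (h _)

end Groth.Agent.FlatMorDeform
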