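import Groth.Agent.FlatMorDeform.Scheme
import Groth.Agent.FlatMorDeform.FibreFlatLft

/-!
# Deforming properties of morphisms of flat finitely presented schemes along thickenings
-/

universe u

set_option autoImplicit false
set_option backward.isDefEq.respectTransparency false
set_option linter.unusedSectionVars false

open AlgebraicGeometry CategoryTheory Limits

namespace Groth.Agent.FlatMorDeform.Fp

variable {X X' Y Y' S S' : Scheme.{u}}
variable {iX : X ⟶ X'} {iY : Y ⟶ Y'} {iS : S ⟶ S'} {f : X ⟶ Y} {f' : X' ⟶ Y'} {g : Y ⟶ S}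
  {g' : Y' ⟶ S'}
  (hS : MoreMor.IsThickening iS) (hcX : IsPullback iX (f ≫ g) (f' ≫ g') iS)
  (hcY : IsPullback iY g g' iS) (w : iX ≫ f' = f ≫ iY)
  [Flat (f' ≫ g')] [LocallyOfFinitePresentation (f' ≫ g')] [LocallyOfFiniteType g']

include hS hcX hcY w

theorem flat_iff : Flat f ↔ Flat f' := by
  have hc := isPullback_top hcX hcY w
  refine ⟨fun hf => flat_of_fibres f' g' fun s' => ?_, fun h => MorphismProperty.of_isPullback hc h⟩
  have := hS.1; have := hS.2
  obtain ⟨s, rfl⟩ := iS.surjective s'
  have := FlatMorThick.isIso_residueFieldMap iS s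
  let j : g'.fiber (iS s) ⟶ Y := hcY.lift (g'.fiberι (iS s))
    (g'.fiberToSpecResidueField (iS s) ≫ inv (Spec.map (iS.residueFieldMap s)) ≫
      S.fromSpecResidueField s) (by
      simp only [Category.assoc]
      rw [← Scheme.Hom.SpecMap_residueFieldMap_fromSpecResidueField, IsIso.inv_hom_id_assoc]
      exact pullback.condition)
  have hj : j ≫ iY = g'.fiberι (iS s) := hcY.lift_fst _ _ _
  have h1 : Flat (pullback.snd f' iY) := by
    rw [← hc.isoPullback_inv_snd]
    infer_instance
  rw [← hj, ← pullbackLeftPullbackSndIso_inv_snd_snd f' iY j]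
  infer_instance

theorem lfp : LocallyOfFinitePresentation f ∧ LocallyOfFinitePresentation f' := by
  have : LocallyOfFinitePresentation f' := H8Lim.lfp_cancel_right f' g'
  exact ⟨MorphismProperty.of_isPullback (isPullback_top hcX hcY w) this, this⟩

theorem isThickening : MoreMor.IsThickening iY :=
  FlatMorThick.isThickening_of_isPullback iY iS g g' hS hcY

theorem smooth_iff : Smooth f ↔ Smooth f' := by
  have hc := isPullback_top hcX hcY w
  have hY := isThickening hS hcX hcY w
  refine ⟨fun hf => ?_, fun h => MorphismProperty.of_isPullback hc h⟩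
  obtain ⟨_, _⟩ := lfp hS hcX hcY w
  have : Flat f' := (flat_iff hS hcX hcY w).1 inferInstance
  have := hY.1; have := hY.2
  refine Smooth.of_smooth_fiberToSpecResidueField f' fun y => ?_
  obtain ⟨y, rfl⟩ := iY.surjective y
  exact FlatMorThick.prop_fiber_of_pullback @Smooth hc hf y

theorem etale_iff : Etale f ↔ Etale f' := by
  have hc := isPullback_top hcX hcY w
  refine ⟨fun _ => ?_, fun h => MorphismProperty.of_isPullback hc h⟩
  obtain ⟨_, _⟩ := lfp hS hcX hcY w
  have : Flat f' := (flat_iff hS hcX hcY w).1 inferInstance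
  have : FormallyUnramified f' := (FlatMorThick.lft_formallyUnramified_iff iX iY f f'
    (isThickening hS hcX hcY w) hc).1 inferInstance
  exact Etale.of_formallyUnramified_of_flat f'

theorem isOpenImmersion_iff : IsOpenImmersion f ↔ IsOpenImmersion f' := by
  have hc := isPullback_top hcX hcY w
  refine ⟨fun _ => ?_, fun h => MorphismProperty.of_isPullback hc h⟩
  obtain ⟨_, _⟩ := lfp hS hcX hcY w
  have : Flat f' := (flat_iff hS hcX hcY w).1 inferInstance
  have : Mono f' := (FlatMorThick.lft_mono_iff iX iY f f'
    (isThickening hS hcX hcY w) hc).1 inferInstance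
  exact IsOpenImmersion.of_flat_of_mono f'

theorem isIso_iff : IsIso f ↔ IsIso f' := by
  have hc := isPullback_top hcX hcY w
  refine ⟨fun _ => ?_, fun h => MorphismProperty.of_isPullback
    (P := MorphismProperty.isomorphisms Scheme.{u}) hc h⟩
  have : IsOpenImmersion f' := (isOpenImmersion_iff hS hcX hcY w).1 inferInstance
  have : Surjective f' := by
    have := (isThickening hS hcX hcY w).2
    have : Surjective (iX ≫ f') := w ▸ inferInstance
    exact Surjective.of_comp iX f'
  exact (isIso_iff_isOpenImmersion_and_surjective f').2 ⟨inferInstance, inferInstance⟩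

end Groth.Agent.FlatMorDeform.Fp
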